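import Groth.Agent.DC43.Trunc

/-! A composite of `n + 1` maps vanishing on cohomology vanishes on amplitude `n + 1`. -/

set_option autoImplicit false
universe w v u

namespace Groth.Agent.Ghost96

open CategoryTheory CategoryTheory.Limits CategoryTheory.Pretriangulated DerivedCategory

variable {C : Type u} [Category.{v} C] [Abelian C] [HasDerivedCategory.{w} C]

/-- The canonical t-structure. -/
local notation "τ" => (DerivedCategory.TStructure.t (C := C))

theorem chain_eq_zero (a : ℤ) (n : ℕ) (K : ℕ ⥤ DerivedCategory C)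
    (hGE : ∀ i : ℕ, i ≤ n + 1 → (K.obj i).IsGE a)
    (hLE : ∀ i : ℕ, i ≤ n + 1 → (K.obj i).IsLE (a + n))
    (hzero : ∀ i : ℕ, i ≤ n → ∀ q : ℤ,
      (DerivedCategory.homologyFunctor C q).map (K.map (homOfLE (Nat.le_succ i))) = 0) :
    K.map (homOfLE (Nat.zero_le (n + 1))) = 0 := by
  induction n generalizing K with
  | zero =>
    exact DC43.eq_zero_of_homology_eq_zero _ a (hGE 0 (by lia)) (by simpa using hLE 0 (by lia))
      (hGE 1 (by lia)) (by simpa using hLE 1 (by lia)) (hzero 0 le_rfl a)
  | succ n ih =>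
    let b : ℤ := a + (n + 1 : ℕ)
    let sh : ℕ ⥤ ℕ := Monotone.functor (f := fun i => i + 1) fun i j h => Nat.add_le_add_right h 1
    let K' : ℕ ⥤ DerivedCategory C := sh ⋙ K ⋙ (τ).truncLT b
    have hKge : ∀ i, i ≤ n + 2 → (τ).IsGE (K.obj i) a := hGE
    have hKle : ∀ i, i ≤ n + 2 → (τ).IsLE (K.obj i) b := hLE
    have h1 : K'.map (homOfLE (Nat.zero_le (n + 1))) = 0 := by
      refine ih K' (fun i hi => ?_) (fun i hi => ?_) (fun i hi q => ?_)
      · have := hKge (i + 1) (by lia)
        exact (inferInstance : (τ).IsGE (((τ).truncLT b).obj (K.obj (i + 1))) a)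
      · have := hKle (i + 1) (by lia)
        exact (τ).isLE_truncLT_obj _ _ _ (by grind)
      · show (homologyFunctor C q).map (((τ).truncLT b).map (K.map (homOfLE (Nat.le_succ (i + 1))))) = 0
        by_cases hq : q < b
        · have := DC43.isIso_homology_truncLTι (K.obj (i + 2)) b q hq
          rw [← cancel_mono ((homologyFunctor C q).map (((τ).truncLTι b).app (K.obj (i + 2)))), zero_comp,
            ← Functor.map_comp]
          have e : ((τ).truncLT b).map (K.map (homOfLE (Nat.le_succ (i + 1)))) ≫
              ((τ).truncLTι b).app (K.obj (i + 2)) =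
              ((τ).truncLTι b).app (K.obj (i + 1)) ≫ K.map (homOfLE (Nat.le_succ (i + 1))) :=
            ((τ).truncLTι b).naturality _
          rw [e, Functor.map_comp, hzero (i + 1) (by lia), comp_zero]
        · have := hKle (i + 2) (by lia)
          have hh : DerivedCategory.IsLE (((τ).truncLT b).obj (K.obj (i + 2))) (a + n) :=
            (τ).isLE_truncLT_obj _ _ _ (by grind)
          exact (DerivedCategory.isZero_of_isLE _ (a + n) q (by grind)).eq_of_tgt _ _
    let g : K.obj 1 ⟶ K.obj (n + 2) := K.map (homOfLE (show 1 ≤ n + 2 by lia))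
    have h0 : ((τ).truncLTι b).app (K.obj 1) ≫ g = 0 := by
      rw [show ((τ).truncLTι b).app (K.obj 1) ≫ g =
        ((τ).truncLT b).map g ≫ ((τ).truncLTι b).app (K.obj (n + 2)) from
          (((τ).truncLTι b).naturality g).symm]
      exact (congrArg (· ≫ _) h1).trans zero_comp
    obtain ⟨h, hh⟩ := Triangle.yoneda_exact₂ _ ((τ).triangleLTGE_distinguished b (K.obj 1)) _ h0
    let f : K.obj 0 ⟶ K.obj 1 := K.map (homOfLE (Nat.le_succ 0))
    have hfp : f ≫ ((τ).truncGEπ b).app (K.obj 1) = 0 := by
      rw [show f ≫ ((τ).truncGEπ b).app (K.obj 1) = ((τ).truncGEπ b).app (K.obj 0) ≫ ((τ).truncGE b).map f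
        from ((τ).truncGEπ b).naturality f]
      have := hKle 0 (by lia)
      have := hKle 1 (by lia)
      have h2 : ((τ).truncGE b).map f = 0 := by
        refine DC43.eq_zero_of_homology_eq_zero _ b
          (inferInstance : (τ).IsGE (((τ).truncGE b).obj (K.obj 0)) b)
          (inferInstance : (τ).IsLE (((τ).truncGE b).obj (K.obj 0)) b)
          (inferInstance : (τ).IsGE (((τ).truncGE b).obj (K.obj 1)) b)
          (inferInstance : (τ).IsLE (((τ).truncGE b).obj (K.obj 1)) b) ?_
        have := DC43.isIso_homology_truncGEπ (K.obj 0) b b le_rfl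
        rw [← cancel_epi ((homologyFunctor C b).map (((τ).truncGEπ b).app (K.obj 0))), comp_zero,
          ← Functor.map_comp,
          show ((τ).truncGEπ b).app (K.obj 0) ≫ ((τ).truncGE b).map f = f ≫ ((τ).truncGEπ b).app (K.obj 1)
            from (((τ).truncGEπ b).naturality f).symm,
          Functor.map_comp, hzero 0 (by lia), zero_comp]
      rw [h2, comp_zero]
    rw [show K.map (homOfLE (Nat.zero_le (n + 1 + 1))) = f ≫ g by
      rw [← K.map_comp]; rfl, hh]
    exact (Category.assoc _ _ _).symm.trans ((congrArg (· ≫ h) hfp).trans zero_comp)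

end Groth.Agent.Ghost96
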