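import Groth.Agent.Ghost96.Chain
import Mathlib.Algebra.Category.ModuleCat.Monoidal.Basic
import Mathlib.Algebra.Homology.ShortComplex.ModuleCat
import Mathlib.Algebra.Category.ModuleCat.Abelian
import Mathlib.RingTheory.Filtration
import Mathlib.RingTheory.Flat.Basic
import Mathlib.Algebra.Module.Projective
import Mathlib.Data.Int.Interval

/-! Powers of an ideal killing the cohomology of a perfect complex are eventually ghosts. -/

set_option autoImplicit false
universe w u

open CategoryTheory MonoidalCategory TensorProduct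

namespace Groth.Agent.Ghost96

variable {A : Type u} [CommRing A]

/-- A map of short complexes of modules is zero on homology if it sends cycles to boundaries. -/
theorem homologyMap_eq_zero {S₁ S₂ : ShortComplex (ModuleCat.{u} A)} (φ : S₁ ⟶ S₂)
    (h : ∀ x : S₁.X₂, S₁.g x = 0 → ∃ y : S₂.X₁, S₂.f y = φ.τ₂ x) :
    ShortComplex.homologyMap φ = 0 := by
  rw [← cancel_epi S₁.homologyπ, Limits.comp_zero, ShortComplex.homologyπ_naturality]
  ext z
  obtain ⟨y, hy⟩ := h (S₁.iCycles z) (by rw [← CategoryTheory.comp_apply, S₁.iCycles_g]; rfl)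
  have hz : ShortComplex.cyclesMap φ z = S₂.toCycles y := by
    apply (ModuleCat.mono_iff_injective S₂.iCycles).1 inferInstance
    rw [← CategoryTheory.comp_apply, ShortComplex.cyclesMap_i, ← CategoryTheory.comp_apply,
      S₂.toCycles_i, hy]
    rfl
  show S₂.homologyπ (ShortComplex.cyclesMap φ z) = 0
  rw [hz, ← CategoryTheory.comp_apply, S₂.toCycles_comp_homologyπ]
  rfl

/-- An element killing homology sends cycles to boundaries. -/
theorem smul_mem_range_of_smul_homology (S : ShortComplex (ModuleCat.{u} A)) (r : A)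
    (hr : ∀ c : ↑S.homology, r • c = 0) (x : S.X₂) (hx : S.g x = 0) :
    r • x ∈ LinearMap.range S.f.hom := by
  let z : S.moduleCatLeftHomologyData.K := (⟨x, hx⟩ : LinearMap.ker S.g.hom)
  have h0 : S.moduleCatLeftHomologyData.π (r • z) = 0 := by
    apply (ModuleCat.mono_iff_injective S.moduleCatHomologyIso.inv).1 inferInstance
    rw [map_zero, map_smul, map_smul]
    exact hr _
  obtain ⟨y, hy⟩ := (Submodule.Quotient.mk_eq_zero _).1 h0
  exact ⟨y, congrArg Subtype.val hy⟩

variable (J : Ideal A)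

/-- The image of `J ^ m ⊗ M` in `M`. -/
noncomputable def φ (m : ℕ) (M : ModuleCat.{u} A) : ↥(J ^ m) ⊗[A] M →ₗ[A] M :=
  TensorProduct.lift ((LinearMap.lsmul A M).domRestrict (J ^ m))

theorem φ_tmul (m : ℕ) (M : ModuleCat.{u} A) (r : ↥(J ^ m)) (x : M) : φ J m M (r ⊗ₜ x) = (r : A) • x := rfl

theorem φ_injective (m : ℕ) (M : ModuleCat.{u} A) [Module.Projective A M] : Function.Injective (φ J m M) := by
  have : φ J m M = (TensorProduct.lid A M).toLinearMap ∘ₗ ((J ^ m).subtype.rTensor M) :=
    TensorProduct.ext' fun r x => by simp [φ_tmul]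
  rw [this, LinearMap.coe_comp]
  exact (TensorProduct.lid A M).injective.comp
    (Module.Flat.rTensor_preserves_injective_linearMap _ Subtype.val_injective)

theorem φ_range (m : ℕ) (M : ModuleCat.{u} A) : LinearMap.range (φ J m M) = J ^ m • ⊤ := by
  apply le_antisymm
  · rintro _ ⟨z, rfl⟩
    induction z with
    | zero => simp
    | tmul r x => exact Submodule.smul_mem_smul r.2 trivial
    | add p q hp hq => rw [map_add]; exact add_mem hp hq
  · exact Submodule.smul_le.2 fun r hr x _ => ⟨(⟨r, hr⟩ : ↥(J ^ m)) ⊗ₜ x, rfl⟩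

variable (K : CochainComplex (ModuleCat.{u} A) ℤ)

/-- The complex `J ^ m ⊗ K`. -/
noncomputable abbrev twist (m : ℕ) : CochainComplex (ModuleCat.{u} A) ℤ :=
  (((curriedTensor (ModuleCat.{u} A)).obj (ModuleCat.of A ↥(J ^ m))).mapHomologicalComplex
    (ComplexShape.up ℤ)).obj K

/-- The transition maps. -/
noncomputable abbrev trans' {p q : ℕ} (h : q ≤ p) : twist J K p ⟶ twist J K q :=
  (NatTrans.mapHomologicalComplex ((curriedTensor (ModuleCat.{u} A)).map
    (ModuleCat.ofHom (Submodule.inclusion (p := J ^ p) (p' := J ^ q) (Ideal.pow_le_pow_right h))))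
    (ComplexShape.up ℤ)).app K

theorem φ_d (m : ℕ) (i j : ℤ) (z : ↥(J ^ m) ⊗[A] K.X i) :
    φ J m (K.X j) ((twist J K m).d i j z) = K.d i j (φ J m (K.X i) z) := by
  have h : φ J m (K.X j) ∘ₗ ((twist J K m).d i j).hom = (K.d i j).hom ∘ₗ φ J m (K.X i) :=
    TensorProduct.ext' fun r x => (map_smul (K.d i j).hom _ _).symm
  exact DFunLike.congr_fun h z

theorem φ_trans {p q : ℕ} (h : q ≤ p) (i : ℤ) (z : ↥(J ^ p) ⊗[A] K.X i) :
    φ J q (K.X i) ((trans' J K h).f i z) = φ J p (K.X i) z := by
  have h' : φ J q (K.X i) ∘ₗ ((trans' J K h).f i).hom = φ J p (K.X i) :=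
    TensorProduct.ext' fun r x => rfl
  exact DFunLike.congr_fun h' z

variable [IsNoetherianRing A]

theorem exists_homologyMap_eq_zero (a b : ℤ)
    (hK : ∀ q : ℤ, q < a ∨ b < q → Limits.IsZero (K.X q))
    (hfin : ∀ q : ℤ, Module.Finite A (K.X q)) (hproj : ∀ q : ℤ, Module.Projective A (K.X q))
    (hJ : ∀ q : ℤ, ∀ x ∈ J, ∀ c : ↑(K.homology q), x • c = 0) :
    ∃ c : ℕ, ∀ (q : ℤ) (m : ℕ), HomologicalComplex.homologyMap (trans' J K (Nat.le_add_left m c)) q = 0 := by
  choose k hk using fun q : ℤ => have := hfin q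
    J.exists_pow_inf_eq_pow_smul (LinearMap.ker (K.sc q).g.hom : Submodule A (K.X q))
  refine ⟨(Finset.Icc a b).sup k + 1, fun q m => homologyMap_eq_zero _ fun z hz => ?_⟩
  by_cases hq : q ∈ Finset.Icc a b
  swap
  · refine ⟨0, ?_⟩
    have hsub : Subsingleton (K.X q) := ModuleCat.subsingleton_of_isZero (hK q (by
      simp only [Finset.mem_Icc, not_and_or, not_le] at hq; exact hq))
    have hproj' := hproj q
    rw [map_zero]
    apply φ_injective J m (K.X q)
    exact Subsingleton.elim _ _
  let c := (Finset.Icc a b).sup k + 1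
  have hck : k q ≤ c + m := by
    have : k q ≤ (Finset.Icc a b).sup k := Finset.le_sup hq
    omega
  let x : K.X q := φ J (c + m) (K.X q) z
  have hxZ : x ∈ (LinearMap.ker (K.sc q).g.hom : Submodule A (K.X q)) := by
    show K.d q ((ComplexShape.up ℤ).next q) x = 0
    exact ((φ_d J K (c + m) q _ z).symm.trans (congrArg (φ J (c + m) _) hz)).trans (map_zero _)
  have hx1 : x ∈ J ^ (m + 1) • (LinearMap.ker (K.sc q).g.hom : Submodule A (K.X q)) := by
    have h1 : x ∈ J ^ (c + m) • (⊤ : Submodule A (K.X q)) ⊓ LinearMap.ker (K.sc q).g.hom :=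
      ⟨φ_range J (c + m) (K.X q) ▸ ⟨z, rfl⟩, hxZ⟩
    rw [hk q (c + m) hck] at h1
    refine Submodule.smul_mono (Ideal.pow_le_pow_right ?_) inf_le_right h1
    have : k q ≤ (Finset.Icc a b).sup k := Finset.le_sup hq
    omega
  have hx2 : x ∈ Submodule.map (K.sc q).f.hom (J ^ m • ⊤) := by
    rw [Submodule.map_smul'', Submodule.map_top]
    have e1 : J ^ (m + 1) • (LinearMap.ker (K.sc q).g.hom : Submodule A (K.sc q).X₂) =
        J ^ m • (J • LinearMap.ker (K.sc q).g.hom) := by rw [pow_succ, Submodule.mul_smul]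
    have hle : J ^ (m + 1) • (LinearMap.ker (K.sc q).g.hom : Submodule A (K.sc q).X₂) ≤
        J ^ m • LinearMap.range (K.sc q).f.hom := e1.trans_le (Submodule.smul_mono le_rfl
      (Submodule.smul_le.2 fun r hr y hy => smul_mem_range_of_smul_homology (K.sc q) r (hJ q r hr) y hy))
    exact hle hx1
  obtain ⟨y, hy, hyx⟩ := hx2
  rw [← φ_range] at hy
  obtain ⟨y', rfl⟩ := hy
  refine ⟨y', ?_⟩
  have := hproj q
  apply φ_injective J m (K.X q)
  show φ J m (K.X q) ((twist J K m).d _ q y') = φ J m (K.X q) ((trans' J K (Nat.le_add_left m c)).f q z)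
  exact ((φ_d J K m _ q y').trans hyx).trans (φ_trans J K _ q z).symm

variable [HasDerivedCategory.{w} (ModuleCat.{u} A)]

theorem twist_isGE_isLE (a b : ℤ) (hK : ∀ q : ℤ, q < a ∨ b < q → Limits.IsZero (K.X q)) (m : ℕ) :
    (DerivedCategory.Q.obj (twist J K m)).IsGE a ∧ (DerivedCategory.Q.obj (twist J K m)).IsLE b := by
  have hz : ∀ q, q < a ∨ b < q → Limits.IsZero ((twist J K m).X q) := fun q hq =>
    Functor.map_isZero ((curriedTensor (ModuleCat.{u} A)).obj (ModuleCat.of A ↥(J ^ m))) (hK q hq)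
  have : (twist J K m).IsStrictlyGE a := (CochainComplex.isStrictlyGE_iff _ a).2 fun q hq => hz q (.inl hq)
  have : (twist J K m).IsStrictlyLE b := (CochainComplex.isStrictlyLE_iff _ b).2 fun q hq => hz q (.inr hq)
  exact ⟨inferInstance, inferInstance⟩

theorem trans'_comp {p q r : ℕ} (h : q ≤ p) (h' : r ≤ q) :
    trans' J K h ≫ trans' J K h' = trans' J K (h'.trans h) := by
  apply HomologicalComplex.hom_ext
  intro i
  apply ModuleCat.hom_ext
  apply TensorProduct.ext'
  intro x y
  rfl

theorem trans'_refl (p : ℕ) : trans' J K (le_refl p) = 𝟙 _ := by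
  apply HomologicalComplex.hom_ext
  intro i
  apply ModuleCat.hom_ext
  apply TensorProduct.ext'
  intro x y
  rfl

theorem exists_Q_map_eq_zero (a b : ℤ)
    (hK : ∀ q : ℤ, q < a ∨ b < q → Limits.IsZero (K.X q))
    (hfin : ∀ q : ℤ, Module.Finite A (K.X q)) (hproj : ∀ q : ℤ, Module.Projective A (K.X q))
    (hJ : ∀ q : ℤ, ∀ x ∈ J, ∀ c : ↑(K.homology q), x • c = 0) :
    ∃ n : ℕ, ∀ m : ℕ, 0 < m →
      DerivedCategory.Q.map (trans' J K (Nat.le_add_left m n)) = 0 := by
  obtain ⟨c, hc⟩ := exists_homologyMap_eq_zero J K a b hK hfin hproj hJ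
  let L := (b - a).toNat
  refine ⟨(L + 1) * c, fun m _ => ?_⟩
  let e : ℕ → ℕ := fun i => (L + 1 - i) * c + m
  have he : ∀ {i j : ℕ}, i ≤ j → e j ≤ e i := fun h =>
    Nat.add_le_add_right (Nat.mul_le_mul_right c (by omega)) m
  let T : ℕ ⥤ DerivedCategory (ModuleCat.{u} A) :=
    { obj := fun i => DerivedCategory.Q.obj (twist J K (e i))
      map := fun {i j} f => DerivedCategory.Q.map (trans' J K (he (leOfHom f)))
      map_id := fun i => by rw [trans'_refl, CategoryTheory.Functor.map_id]
      map_comp := fun f g => by rw [← CategoryTheory.Functor.map_comp, trans'_comp] }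
  have h := chain_eq_zero a L T (fun i _ => (twist_isGE_isLE J K a b hK (e i)).1) (fun i _ => by
      have hl := (twist_isGE_isLE J K a b hK (e i)).2
      exact (DerivedCategory.TStructure.t (C := ModuleCat.{u} A)).isLE_of_le _ b (a + L) (by omega))
    (fun i hi q => by
      have key : ∀ (p r : ℕ) (hp : r ≤ p), p = c + r →
          (DerivedCategory.homologyFunctor _ q).map (DerivedCategory.Q.map (trans' J K hp)) = 0 := by
        intro p r hp hpr
        subst hpr
        have hnat := (DerivedCategory.homologyFunctorFactors (ModuleCat.{u} A) q).hom.naturality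
          (trans' J K hp)
        rw [show (HomologicalComplex.homologyFunctor (ModuleCat.{u} A) (ComplexShape.up ℤ) q).map
          (trans' J K hp) = 0 from hc q r, Limits.comp_zero] at hnat
        exact (cancel_mono ((DerivedCategory.homologyFunctorFactors (ModuleCat.{u} A) q).hom.app _)).1
          (hnat.trans Limits.zero_comp.symm)
      refine key _ _ _ ?_
      show (L + 1 - i) * c + m = c + ((L + 1 - (i + 1)) * c + m)
      rw [show L + 1 - i = (L + 1 - (i + 1)) + 1 by omega]
      ring)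
  have key : ∀ (p r : ℕ) (hp : r ≤ p), p = e 0 → r = e (L + 1) →
      DerivedCategory.Q.map (trans' J K hp) = 0 := by
    intro p r hp h1 h2
    subst h1 h2
    exact h
  exact key _ _ _ (by simp [e]) (by simp [e])

end Groth.Agent.Ghost96
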